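import Cfsg.Agent.Lib.Helper13.TV.Defs
import Cfsg.Agent.Lib.Helper70.Rank2

set_option autoImplicit false

namespace Cfsg.Agent.Lib.Helper13.TV

open Cfsg Subgroup

universe u

variable {G : Type u} [Group G] [Finite G]

/-- RUNG FREE (pure group theory): `K` acts freely by conjugation on `L \ D`. -/
theorem card_dvd_sub {K L D : Subgroup G} (hKL : K ≤ normalizer (L : Set G)) (hDL : D ≤ L)
    (h : ∀ k ∈ K, k ≠ 1 → L ⊓ centralizer ({k} : Set G) = D) :
    Nat.card K ∣ Nat.card L - Nat.card D := by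
  have hcount : Nat.card {x : G // x ∈ L ∧ x ∉ D} = Nat.card L - Nat.card D := by
    have h1 : Nat.card {x : G // x ∈ L ∧ x ∉ D} = ((L : Set G) \ (D : Set G)).ncard :=
      Nat.card_coe_set_eq ((L : Set G) \ (D : Set G))
    rw [h1, Set.ncard_sdiff (show (D : Set G) ⊆ L from hDL) (Set.toFinite _)]
    rfl
  rw [← hcount]
  let act : MulAction ↥K G := MulAction.compHom G (MulAut.conj.comp K.subtype)
  have hsm : ∀ (k : ↥K) (x : G), k • x = (k : G) * x * (k : G)⁻¹ := fun _ _ => rfl
  refine @Cfsg.Agent.Lib.Helper70.Rank2.dvd_card_of_free ↥K G _ _ act _ (fun x => x ∈ L ∧ x ∉ D) ?_ ?_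
  · rintro k x ⟨hxL, hxD⟩
    rw [hsm]
    refine ⟨(mem_normalizer_iff.mp (hKL k.2) x).mp hxL, fun hd => hxD ?_⟩
    by_cases hk : (k : G) = 1
    · simpa [hk] using hd
    · have hd' := hd
      rw [← h k k.2 hk, mem_inf, mem_centralizer_singleton_iff] at hd'
      have e : x = (k : G) * (x * (k : G)⁻¹) := by
        have := hd'.2
        simp only [mul_assoc, inv_mul_cancel, mul_one] at this
        exact mul_left_cancel this
      rw [mul_assoc, ← e] at hd
      exact hd
  · rintro k x ⟨hxL, hxD⟩ hfix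
    rw [hsm] at hfix
    by_contra hk
    have hk' : (k : G) ≠ 1 := fun e => hk (Subtype.ext e)
    apply hxD
    rw [← h k k.2 hk', mem_inf, mem_centralizer_singleton_iff]
    refine ⟨hxL, ?_⟩
    rw [mul_inv_eq_iff_eq_mul] at hfix
    exact hfix.symm

end Cfsg.Agent.Lib.Helper13.TV
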