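import Cfsg.Agent.Lib.Helper13.TV.SPAN

set_option autoImplicit false

namespace Cfsg.Agent.Lib.Helper13.TV

open Cfsg Subgroup

universe u

variable {G : Type u} [Group G] [Finite G]

theorem lines_card_diff {L D : Subgroup G} (hDL : D ≤ L) :
    Nat.card {x : G // x ∈ L ∧ x ∉ D} = Nat.card L - Nat.card D := by
  have h1 : Nat.card {x : G // x ∈ L ∧ x ∉ D} = ((L : Set G) \ (D : Set G)).ncard :=
    Nat.card_coe_set_eq ((L : Set G) \ (D : Set G))
  rw [h1, Set.ncard_sdiff (show (D : Set G) ⊆ L from hDL) (Set.toFinite _)]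
  rfl

/-- RUNG LINES (pure group theory): there are `p + 1` lines. -/
theorem card_lines {P Z K : Subgroup G} {p : ℕ} (h : Act P Z K p) :
    Nat.card {L : Subgroup G // IsLine P Z p L} = p + 1 := by
  classical
  let f : {a : G // a ∈ P ∧ a ∉ Z} → {L : Subgroup G // IsLine P Z p L} :=
    fun a => ⟨zpowers a.1 ⊔ Z, (line_span h a.2.1 a.2.2).1⟩
  have hfib : ∀ L : {L : Subgroup G // IsLine P Z p L},
      Nat.card {x : {a : G // a ∈ P ∧ a ∉ Z} // f x = L} = p ^ 2 - p := by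
    intro L
    have e : {x : {a : G // a ∈ P ∧ a ∉ Z} // f x = L} ≃ {a : G // a ∈ L.1 ∧ a ∉ Z} :=
      { toFun := fun x => ⟨x.1.1, by
          have h1 : zpowers x.1.1 ⊔ Z = L.1 := congrArg Subtype.val x.2
          rw [← h1]
          exact (le_sup_left : zpowers x.1.1 ≤ _) (mem_zpowers _), x.1.2.2⟩
        invFun := fun y => ⟨⟨y.1, L.2.2.1 y.2.1, y.2.2⟩,
          Subtype.ext ((line_span h (L.2.2.1 y.2.1) y.2.2).2.1 L.1 L.2 y.2.1).symm⟩
        left_inv := fun x => rfl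
        right_inv := fun y => rfl }
    rw [Nat.card_congr e, lines_card_diff L.2.1, L.2.2.2, h.cardZ]
  have htot : Nat.card {a : G // a ∈ P ∧ a ∉ Z} = p ^ 3 - p := by
    rw [lines_card_diff h.ZP, h.cardP, h.cardZ]
  have hfin : Fintype {L : Subgroup G // IsLine P Z p L} := Fintype.ofFinite _
  have hsum : Nat.card {a : G // a ∈ P ∧ a ∉ Z} =
      Nat.card {L : Subgroup G // IsLine P Z p L} * (p ^ 2 - p) := by
    rw [Nat.card_congr (Equiv.sigmaFiberEquiv f).symm, Nat.card_sigma,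
      Finset.sum_congr rfl fun L _ => hfib L, Finset.sum_const, Finset.card_univ, smul_eq_mul,
      Nat.card_eq_fintype_card]
  rw [htot] at hsum
  obtain ⟨k, rfl⟩ : ∃ k, p = k + 2 := ⟨p - 2, by have := h.hp.two_le; omega⟩
  have e2 : (k + 2) ^ 2 - (k + 2) = (k + 2) * (k + 1) := by
    apply Nat.sub_eq_of_eq_add; ring
  have e3 : (k + 2) ^ 3 - (k + 2) = (k + 2 + 1) * ((k + 2) * (k + 1)) := by
    apply Nat.sub_eq_of_eq_add; ring
  rw [e2, e3] at hsum
  exact (Nat.eq_of_mul_eq_mul_right (by positivity) hsum).symm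

end Cfsg.Agent.Lib.Helper13.TV
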