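import Cfsg.Agent.Lib.Helper13.TV.FIX
import Cfsg.Agent.Lib.Helper13.TV.LINES
import Cfsg.Agent.Lib.Helper13.TV.FREE

set_option autoImplicit false

namespace Cfsg.Agent.Lib.Helper13.TV

open Cfsg Subgroup
open scoped Pointwise

universe u

variable {G : Type u} [Group G] [Finite G]

/-- RUNG ACT (pure group theory). -/
theorem act_dvd {P Z K : Subgroup G} {p : ℕ} (h : Act P Z K p) :
    Nat.card K ∣ p - 1 ∨ Nat.card K ∣ p + 1 := by
  have hKZ : ∀ k ∈ K, ∀ z ∈ Z, k * z * k⁻¹ = z := by
    intro k hk z hz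
    by_cases hk1 : k = 1
    · simp [hk1]
    · have hz' := hz
      rw [← h.fix k hk hk1, mem_inf, mem_centralizer_singleton_iff] at hz'
      rw [← hz'.2, mul_inv_cancel_right]
  by_cases hex : ∃ L, IsLine P Z p L ∧ ∃ s ∈ K, s ≠ 1 ∧ s ∈ normalizer (L : Set G)
  · left
    obtain ⟨L, hL, s, hs, hs1, hsL⟩ := hex
    have hKL := line_fixed h hL hs hs1 hsL
    have hfix : ∀ k ∈ K, k ≠ 1 → L ⊓ centralizer ({k} : Set G) = Z := by
      intro k hk hk1
      apply le_antisymm
      · rw [← h.fix k hk hk1]
        exact inf_le_inf_right _ hL.2.1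
      · refine le_inf hL.1 ?_
        rw [← h.fix k hk hk1]
        exact inf_le_right
    have hd := card_dvd_sub hKL hL.1 hfix
    rw [hL.2.2, h.cardZ] at hd
    have e : p ^ 2 - p = p * (p - 1) := by
      rw [Nat.mul_sub, mul_one, sq]
    rw [e] at hd
    exact h.Kp.dvd_of_dvd_mul_left hd
  · right
    push Not at hex
    rw [← card_lines h]
    let act : MulAction ↥K (Subgroup G) :=
      MulAction.compHom (Subgroup G) (MulAut.conj.comp K.subtype)
    have hsm : ∀ (k : ↥K) (L : Subgroup G), k • L = MulAut.conj (k : G) • L := fun _ _ => rfl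
    refine @Cfsg.Agent.Lib.Helper70.Rank2.dvd_card_of_free ↥K (Subgroup G) _ _ act _
      (fun L => IsLine P Z p L) ?_ ?_
    · rintro k L ⟨hZL, hLP, hLc⟩
      rw [hsm]
      refine ⟨fun z hz => ?_, ?_, ?_⟩
      · have := smul_mem_pointwise_smul z (MulAut.conj (k : G)) L (hZL hz)
        rwa [MulAut.smul_def, MulAut.conj_apply, hKZ k k.2 z hz] at this
      · intro x hx
        rw [mem_pointwise_smul_iff_inv_smul_mem, MulAut.smul_def, ← map_inv,
          MulAut.conj_apply] at hx
        have h1 := (mem_normalizer_iff.mp (h.KP k.2) _).mp (hLP hx)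
        simpa [mul_assoc] using h1
      · rw [← hLc]
        exact (Nat.card_congr (equivSMul (MulAut.conj (k : G)) L).toEquiv).symm
    · rintro k L hL hfix
      rw [hsm] at hfix
      by_contra hk
      have hk' : (k : G) ≠ 1 := fun e => hk (Subtype.ext e)
      apply hex L hL k k.2 hk'
      rw [mem_normalizer_iff]
      intro y
      have := smul_mem_pointwise_smul_iff (a := MulAut.conj (k : G)) (S := L) (x := y)
      rw [hfix, MulAut.smul_def, MulAut.conj_apply] at this
      exact this.symm

end Cfsg.Agent.Lib.Helper13.TV
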