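import Cfsg.Agent.Lib.Helper13.TV.KS
import Cfsg.Agent.Lib.Helper13.TV.FREE

set_option autoImplicit false

namespace Cfsg.Agent.Lib.Helper13.TV

open Cfsg Subgroup

universe u

variable {G : Type u} [Group G] [Finite G]

/-- two different subgroups of the same prime order meet trivially. -/
theorem c1_inf_eq_bot {p : ℕ} (hp : p.Prime) {X Y : Subgroup G} (hX : Nat.card X = p)
    (hY : Nat.card Y = p) (hne : X ≠ Y) : X ⊓ Y = ⊥ := by
  have hd : Nat.card ↥(X ⊓ Y) ∣ p := hX ▸ card_dvd_of_le inf_le_left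
  rcases (Nat.dvd_prime hp).mp hd with h1 | h1
  · exact card_eq_one.mp h1
  · exfalso
    have e1 : X ⊓ Y = X := eq_of_le_of_card_ge inf_le_left (by rw [h1, hX])
    have e2 : X ⊓ Y = Y := eq_of_le_of_card_ge inf_le_right (by rw [h1, hY])
    exact hne (e1.symm.trans e2)

/-- RUNG C1: if `Ω₁(Z(P)) ≠ K*` then `|K|` divides `p - 1`. -/
theorem dvd_of_ne (hG : IsMinSimpleOddOrder G) {M K P C N A : Subgroup G} {p : ℕ} {x : G}
    (h : Cfg M K P C N A p x) {Z : Subgroup G} (hZP : Z ≤ P) (hZc : Nat.card Z = p)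
    (hZn : M ≤ normalizer (Z : Set G)) (hne : Z ≠ sigmaCore M ⊓ centralizer (K : Set G)) :
    Nat.card K ∣ p - 1 := by
  obtain ⟨_, hc, hfix, _, _⟩ := Kstar hG h
  have hb := c1_inf_eq_bot h.hp hZc hc hne
  have key := card_dvd_sub (K := K) (L := Z) (D := ⊥) (h.dec.hall.1.trans hZn) bot_le (by
    intro k hk hk1
    rw [eq_bot_iff, ← hb]
    refine le_inf inf_le_left ?_
    rw [← hfix k hk hk1]
    exact inf_le_inf_right _ hZP)
  rwa [hZc, card_bot] at key

end Cfsg.Agent.Lib.Helper13.TV
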