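import Cfsg.Agent.Lib.Helper13.TV.Defs
import Cfsg.Agent.Lib.Helper26.BG11_12

set_option autoImplicit false

namespace Cfsg.Agent.Lib.Helper13.TV

open Cfsg Subgroup

universe u

variable {G : Type u} [Group G] [Finite G]

/-- `p ∈ σ(M)` in the configuration. -/
theorem syl_mem_sigma (hG : IsMinSimpleOddOrder G) {M K P C N A : Subgroup G} {p : ℕ} {x : G}
    (h : Cfg M K P C N A p x) : p ∈ sigma M := by
  apply (Cfsg.Agent.Lib.Helper28.BG12.sigmaCore_hall hG h.hM).2.1 p h.hp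
  have h1 : orderOf x = orderOf (⟨x, h.xH⟩ : sigmaCore M) := (Subgroup.orderOf_mk x h.xH).symm
  have h2 := orderOf_dvd_natCard (⟨x, h.xH⟩ : sigmaCore M)
  rw [← h1, h.xo] at h2
  exact h2

/-- `P` is a Sylow `p`-subgroup of `M_σ`. -/
theorem syl_isSylowIn {M K P C N A : Subgroup G} {p : ℕ} {x : G}
    (h : Cfg M K P C N A p x) [Fact p.Prime] :
    Cfsg.Agent.Lib.Helper30.IsSylowIn p P (sigmaCore M) := by
  obtain ⟨Q, hQ⟩ := Cfsg.Agent.Lib.Helper30.exists_isSylowIn p (sigmaCore M)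
  have hPH : P ≤ sigmaCore M := by rw [h.PC]; exact le_sup_left
  have hQP : Q ≤ P := by
    intro y hy
    apply h.pel y (hQ.le hy)
    obtain ⟨k, hk⟩ := hQ.isPGroup ⟨y, hy⟩
    refine ⟨k, ?_⟩
    have := congrArg Subtype.val hk
    simpa using this
  have := hQ.eq_of_le hPH h.Pp hQP
  rw [this]
  exact hQ

/-- RUNG SYL: `P` is a Sylow `p`-subgroup of `G`. -/
theorem exists_sylow (hG : IsMinSimpleOddOrder G) {M K P C N A : Subgroup G} {p : ℕ} {x : G}
    (h : Cfg M K P C N A p x) [Fact p.Prime] : ∃ S : Sylow p G, (S : Subgroup G) = P := by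
  have h1 := Cfsg.Agent.Lib.Helper26.BG11.isSylowIn_top_of_sigmaCore hG h.hM (syl_mem_sigma hG h)
    (syl_isSylowIn h)
  have h2 : ¬ p ∣ P.index := by
    have := h1.not_dvd
    rwa [relIndex_top_right] at this
  exact ⟨h.Pp.toSylow h2, rfl⟩

end Cfsg.Agent.Lib.Helper13.TV
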