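import Cfsg.Agent.Lib.Helper13.TV.NAB
import Cfsg.Agent.Lib.Helper13.TV.SYL
import Cfsg.Agent.Lib.Helper2.BG10A
import Cfsg.Agent.S1408

set_option autoImplicit false

namespace Cfsg.Agent.Lib.Helper13.TV

open Cfsg Subgroup

universe u

variable {G : Type u} [Group G] [Finite G]

omit [Finite G] in
/-- `Ω₁(Z(P))` as a subgroup of `G`. -/
def z0Omega (P : Subgroup G) (p : ℕ) : Subgroup G where
  carrier := {z | z ∈ P ⊓ centralizer (P : Set G) ∧ z ^ p = 1}
  one_mem' := ⟨one_mem _, one_pow _⟩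
  mul_mem' := by
    rintro a b ⟨ha, hap⟩ ⟨hb, hbp⟩
    refine ⟨mul_mem ha hb, ?_⟩
    have hc : Commute a b := (mem_centralizer_iff.1 ha.2 b hb.1).symm
    rw [hc.mul_pow, hap, hbp, one_mul]
  inv_mem' := by
    rintro a ⟨ha, hap⟩
    exact ⟨inv_mem ha, by rw [inv_pow, hap, inv_one]⟩

omit [Finite G] in
theorem mem_z0Omega {P : Subgroup G} {p : ℕ} {z : G} :
    z ∈ z0Omega P p ↔ z ∈ P ⊓ centralizer (P : Set G) ∧ z ^ p = 1 := Iff.rfl

/-- in the configuration, `A ≤ P`. -/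
theorem z0_A_le (hG : IsMinSimpleOddOrder G) {M K P C N A : Subgroup G} {p : ℕ} {x : G}
    (h : Cfg M K P C N A p x) : A ≤ P := by
  have : Fact p.Prime := ⟨h.hp⟩
  have hAp : IsPGroup p A := by
    intro a
    refine ⟨1, ?_⟩
    apply Subtype.ext
    simpa using h.Aea.2 a.1 a.2
  have h1 : A ≤ sigmaCore M :=
    Cfsg.Agent.Lib.Helper28.BG12.isPGroup_le_sigmaCore hG h.hM (syl_mem_sigma hG h)
      (h.AE.trans inf_le_left) hAp
  intro a ha
  exact h.pel a (h1 ha) ⟨1, by simpa using h.Aea.2 a ha⟩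

/-- RUNG Z0: `Ω₁(Z(P))` has order `p`. -/
theorem exists_Z0 (hG : IsMinSimpleOddOrder G) {M K P C N A : Subgroup G} {p : ℕ} {x : G}
    (h : Cfg M K P C N A p x) :
    ∃ Z : Subgroup G, Z ≤ P ⊓ centralizer (P : Set G) ∧ Nat.card Z = p ∧
      (∀ z ∈ P ⊓ centralizer (P : Set G), z ^ p = 1 → z ∈ Z) ∧ M ≤ normalizer (Z : Set G) := by
  have hp := h.hp
  have : Fact p.Prime := ⟨hp⟩
  have hAP := z0_A_le hG h
  obtain ⟨-, hxc⟩ := not_comm hG h
  set Z := z0Omega P p with hZdef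
  have hZle : Z ≤ P ⊓ centralizer (P : Set G) := fun z hz => hz.1
  have hZea : IsElementaryAbelian p Z := by
    refine ⟨⟨⟨fun a b => Subtype.ext ?_⟩⟩, fun a ha => ha.2⟩
    exact (mem_centralizer_iff.1 a.2.1.2 b.1 b.2.1.1).symm
  have hsup : IsElementaryAbelian p (Z ⊔ A) := by
    refine Cfsg.Agent.Lib.Helper2.ea_sup hZea h.Aea ?_
    intro a ha b hb
    exact (mem_centralizer_iff.1 ha.1.2 b (hAP hb)).symm
  have hZA : Z ≤ A := by
    have := (Cfsg.Agent.S1408.result hG N h.hN p h.tau2.2.1 h.tau2.2.2.1 h.tau2.2.2.2).2 A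
      (h.AE.trans inf_le_right) h.Aea h.Ac (Z ⊔ A) hsup le_sup_right
    rw [← this]; exact le_sup_left
  have hZneA : Z ≠ A := by
    intro he
    have hxZ : x ∈ Z := he ▸ h.xA
    apply hxc
    intro y hy
    rw [mem_centralizer_iff]
    intro w hw
    rw [Set.mem_singleton_iff] at hw
    rw [hw]
    exact (mem_centralizer_iff.1 hxZ.1.2 y hy).symm
  have hZne : Z ≠ ⊥ := by
    have hx1 : x ≠ 1 := by
      intro he
      have := h.xo
      rw [he, orderOf_one] at this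
      exact hp.one_lt.ne this
    have hnt : Nontrivial P := ⟨⟨⟨x, hAP h.xA⟩, 1, fun he => hx1 (congrArg Subtype.val he)⟩⟩
    have hcn := h.Pp.center_nontrivial
    obtain ⟨z, hz1⟩ := exists_ne (1 : center P)
    -- `z` has order `p ^ k`, `k ≥ 1`
    obtain ⟨k, hk⟩ := (IsPGroup.iff_orderOf.1 h.Pp) z.1
    have hzne : (z.1 : P) ≠ 1 := fun he => hz1 (Subtype.ext he)
    have hk0 : k ≠ 0 := by
      intro h0
      rw [h0, pow_zero, orderOf_eq_one_iff] at hk
      exact hzne hk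
    obtain ⟨j, rfl⟩ := Nat.exists_eq_succ_of_ne_zero hk0
    set w : G := ((z.1 : P) : G) ^ p ^ j with hw
    have hzo : orderOf ((z.1 : P) : G) = p ^ (j + 1) := by
      rw [← hk]; exact Subgroup.orderOf_coe _
    have hwp : w ^ p = 1 := by
      rw [hw, ← pow_mul, ← pow_succ, ← hzo]; exact pow_orderOf_eq_one _
    have hw1 : w ≠ 1 := by
      intro he
      have := orderOf_dvd_of_pow_eq_one he
      rw [hzo] at this
      have := Nat.le_of_dvd (pow_pos hp.pos _) this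
      exact absurd this (not_le.2 (Nat.pow_lt_pow_right hp.one_lt (Nat.lt_succ_self j)))
    have hzc : ((z.1 : P) : G) ∈ P ⊓ centralizer (P : Set G) := by
      refine mem_inf.2 ⟨(z.1 : P).2, ?_⟩
      rw [mem_centralizer_iff]
      intro y hy
      have := mem_center_iff.1 z.2 ⟨y, hy⟩
      exact congrArg Subtype.val this
    have hwZ : w ∈ Z := ⟨pow_mem hzc _, hwp⟩
    intro he
    rw [he, mem_bot] at hwZ
    exact hw1 hwZ
  have hcard : Nat.card Z = p := by
    have hdvd : Nat.card Z ∣ p ^ 2 := h.Ac ▸ card_dvd_of_le hZA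
    obtain ⟨i, hi, hi2⟩ := (Nat.dvd_prime_pow hp).1 hdvd
    interval_cases i
    · exact absurd ((card_eq_one (H := Z)).1 (by simpa using hi2)) hZne
    · simpa using hi2
    · exfalso
      apply hZneA
      apply eq_of_le_of_card_ge hZA
      rw [hi2, h.Ac]
  refine ⟨Z, hZle, hcard, fun z hz hzp => ⟨hz, hzp⟩, ?_⟩
  have key : ∀ m ∈ M, ∀ z ∈ Z, m * z * m⁻¹ ∈ Z := by
    intro m hm z hz
    have hmn := h.Pn hm
    refine ⟨mem_inf.2 ⟨(mem_normalizer_iff.1 hmn z).1 hz.1.1, ?_⟩, ?_⟩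
    · rw [mem_centralizer_iff]
      intro y hy
      have hy' : m⁻¹ * y * m ∈ P := by
        have := (mem_normalizer_iff.1 (inv_mem hmn) y).1 hy
        simpa using this
      have := mem_centralizer_iff.1 hz.1.2 _ hy'
      calc y * (m * z * m⁻¹) = m * ((m⁻¹ * y * m) * z) * m⁻¹ := by group
        _ = m * (z * (m⁻¹ * y * m)) * m⁻¹ := by rw [this]
        _ = m * z * m⁻¹ * y := by group
    · rw [conj_pow, hz.2]; group
  intro m hm
  rw [mem_normalizer_iff]
  intro z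
  refine ⟨key m hm z, fun hz => ?_⟩
  have := key m⁻¹ (inv_mem hm) _ hz
  have e : m⁻¹ * (m * z * m⁻¹) * m⁻¹⁻¹ = z := by group
  rwa [e] at this

end Cfsg.Agent.Lib.Helper13.TV
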