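import Cfsg.Agent.Lib.Helper13.TV.KS
import Cfsg.Agent.Lib.Helper13.TV.Z0
import Cfsg.Agent.S1408
import Cfsg.Agent.S1454
import Cfsg.Agent.Lib.Helper30.BGBeta1

set_option autoImplicit false

namespace Cfsg.Agent.Lib.Helper13.TV

open Cfsg Subgroup

universe u

variable {G : Type u} [Group G] [Finite G]

/-- RUNG C2: if `P` has rank at least 3 then `|K|` divides `p - 1`. -/
theorem dvd_of_rank (hG : IsMinSimpleOddOrder G) {M K P C N A : Subgroup G} {p : ℕ} {x : G}
    (h : Cfg M K P C N A p x) (hr : ¬ PRankLE p 2 P) : Nat.card K ∣ p - 1 := by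
  have hp := h.hp
  have : Fact p.Prime := ⟨hp⟩
  have hAP := z0_A_le hG h
  obtain ⟨hKP, hKc, hfix, hodd, hcop⟩ := Kstar hG h
  have hKM : K ≤ M := h.dec.hall.1
  have hKN : K ≤ normalizer (P : Set G) := hKM.trans h.Pn
  have hp2 : p ≠ 2 := by
    rintro rfl
    have h1 : 2 ∣ Nat.card G := h.xo ▸ orderOf_dvd_natCard x
    exact (Nat.not_even_iff_odd.2 hG.1) (even_iff_two_dvd.2 h1)
  -- narrowness
  have hnarrow : IsNarrow p P := by
    refine Cfsg.Agent.Lib.Helper30.isNarrow_of_maximal_sq p hp2 h.Pp (A.subgroupOf P) ?_ ?_ ?_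
    · refine ⟨⟨⟨fun a b => Subtype.ext (Subtype.ext ?_)⟩⟩, fun a ha => Subtype.ext ?_⟩
      · exact Cfsg.Agent.Lib.Helper2.ea_comm h.Aea (mem_subgroupOf.1 a.2) (mem_subgroupOf.1 b.2)
      · simpa using h.Aea.2 a.1 (mem_subgroupOf.1 ha)
    · rw [Nat.card_congr (subgroupOfEquivOfLe hAP).toEquiv, h.Ac]
    · intro B hB hle
      have hBea : IsElementaryAbelian p (B.map P.subtype) := by
        refine ⟨⟨⟨?_⟩⟩, ?_⟩
        · rintro ⟨_, a, ha, rfl⟩ ⟨_, b, hb, rfl⟩
          apply Subtype.ext
          have := Cfsg.Agent.Lib.Helper2.ea_comm hB ha hb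
          exact congrArg (Subtype.val : P → G) this
        · rintro _ ⟨a, ha, rfl⟩
          have := hB.2 a ha
          have := congrArg Subtype.val this
          simpa using this
      have hAB : A ≤ B.map P.subtype := by
        have := Subgroup.map_mono (f := P.subtype) hle
        rwa [map_subgroupOf_eq_of_le hAP] at this
      have := (Cfsg.Agent.S1408.result hG N h.hN p h.tau2.2.1 h.tau2.2.2.1 h.tau2.2.2.2).2 A
        (h.AE.trans inf_le_right) h.Aea h.Ac _ hBea hAB
      have h2 : (B.map P.subtype).comap P.subtype = B :=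
        comap_map_eq_self_of_injective P.subtype_injective B
      rw [← h2, this]; rfl
  have hfaith : K ⊓ centralizer (P : Set G) = ⊥ := by
    rw [eq_bot_iff_forall]
    intro k hk
    by_contra hk1
    have hle : A ≤ sigmaCore M ⊓ centralizer (K : Set G) := by
      rw [← hfix k hk.1 hk1]
      intro a ha
      refine mem_inf.2 ⟨hAP ha, ?_⟩
      rw [mem_centralizer_iff]
      intro y hy
      rw [Set.mem_singleton_iff] at hy
      rw [hy]
      exact (mem_centralizer_iff.1 hk.2 a (hAP ha)).symm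
    have := card_le_of_le hle
    rw [h.Ac, hKc] at this
    have h3 : p < p ^ 2 := by
      calc p = p ^ 1 := (pow_one p).symm
        _ < p ^ 2 := Nat.pow_lt_pow_right hp.one_lt (by norm_num)
    omega
  have hcyc := h.dec.cyclic
  have hsol : Group.IsSolvable K := by
    have := IsCyclic.isMulCommutative (α := K)
    exact Group.isSolvable_of_comm (fun a b => mul_comm' a b)
  obtain ⟨a, ha⟩ := IsCyclic.exists_generator (α := K)
  have hao : orderOf (a : G) = Nat.card K := by
    rw [Subgroup.orderOf_coe]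
    exact orderOf_eq_card_of_forall_mem_zpowers ha
  have := (Cfsg.Agent.S1454.result p hp2 P K h.Pp hnarrow hKN hsol hodd hfaith).2.1 hr a.1 a.2
    (by rw [hao]; exact hcop)
  rwa [hao] at this

end Cfsg.Agent.Lib.Helper13.TV
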