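import Cfsg.Agent.Lib.Helper13.TV.Defs
import Cfsg.Agent.S1420
import Cfsg.Agent.S1365
import Cfsg.Agent.S1354

set_option autoImplicit false

namespace Cfsg.Agent.Lib.Helper13.TV

open Cfsg Subgroup

universe u

variable {G : Type u} [Group G] [Finite G]

omit [Finite G] in
theorem nab_x_mem {M K P C N A : Subgroup G} {p : ℕ} {x : G}
    (h : Cfg M K P C N A p x) : x ∈ P :=
  h.pel x h.xH ⟨1, by rw [pow_one, ← h.xo]; exact pow_orderOf_eq_one x⟩

omit [Finite G] in
theorem nab_C_le_cent {M K P C N A : Subgroup G} {p : ℕ} {x : G}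
    (h : Cfg M K P C N A p x) : C ≤ centralizer ({x} : Set G) := by
  intro c hc
  rw [mem_centralizer_singleton_iff]
  exact (mem_centralizer_iff.mp (h.comm hc) x (nab_x_mem h)).symm

/-- a nilpotent subgroup of `M ⊓ N` is abelian. -/
theorem nab_comm_of_le (hG : IsMinSimpleOddOrder G) {M K P C N A : Subgroup G} {p : ℕ} {x : G}
    (h : Cfg M K P C N A p x) {X : Subgroup G} (hX : X ≤ M ⊓ N) (hn : Group.IsNilpotent X) :
    IsMulCommutative X :=
  (Cfsg.Agent.S1420.result hG N h.hN (M ⊓ N) h.compl).1 X (hX.trans inf_le_right) hn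
    (fun q hq hqd => Cfsg.Agent.Lib.Helper28.BG12.not_mem_sigma_of_dvd_compl hG h.hN h.compl hq
      (hqd.trans (card_dvd_of_le hX)))

/-- RUNG NAB: `P` is not abelian, and `x ∉ Z(P)`. -/
theorem not_comm (hG : IsMinSimpleOddOrder G) {M K P C N A : Subgroup G} {p : ℕ} {x : G}
    (h : Cfg M K P C N A p x) : ¬ IsMulCommutative P ∧ ¬ P ≤ centralizer ({x} : Set G) := by
  have hxP : x ∈ P := nab_x_mem h
  have hPH : P ≤ sigmaCore M := by rw [h.PC]; exact le_sup_left
  have hHM := Cfsg.Agent.Lib.Helper28.BG12.sigmaCore_le M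
  have ha : ¬ IsMulCommutative P := by
    intro hab
    have hPx : P ≤ centralizer ({x} : Set G) := by
      intro y hy
      rw [mem_centralizer_singleton_iff]
      exact Cfsg.Agent.Lib.Helper28.BG12.comm_of_isMulCommutative hab hy hxP
    have hHx : sigmaCore M ≤ centralizer ({x} : Set G) := by
      rw [h.PC]; exact sup_le hPx (nab_C_le_cent h)
    have hHE : sigmaCore M ≤ M ⊓ N := le_inf hHM (hHx.trans h.cent)
    have hHab : IsMulCommutative (sigmaCore M) := nab_comm_of_le hG h hHE h.nil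
    have s65 := Cfsg.Agent.S1365.result hG M h.hM K ⊥ h.dec h.K1
    apply (Cfsg.Agent.S1354.result hG M h.hM K h.dec.cyclic h.dec.hall).1
    rw [eq_bot_iff]
    refine s65.2.trans ?_
    rw [s65.1, bot_sup_eq, le_bot_iff, commutator_eq_bot_iff_le_centralizer]
    intro a ha
    rw [mem_centralizer_iff]
    intro b hb
    exact Cfsg.Agent.Lib.Helper28.BG12.comm_of_isMulCommutative hHab hb ha
  refine ⟨ha, fun hPx => ha ?_⟩
  haveI : Fact p.Prime := ⟨h.hp⟩
  exact nab_comm_of_le hG h (le_inf (hPH.trans hHM) (hPx.trans h.cent)) h.Pp.isNilpotent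

end Cfsg.Agent.Lib.Helper13.TV
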