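import Cfsg.Agent.Lib.Helper13.TV.KS
import Cfsg.Agent.Lib.Helper13.TV.SYL
import Cfsg.Agent.Lib.Helper13.TV.NAB
import Cfsg.Agent.S1412

set_option autoImplicit false

namespace Cfsg.Agent.Lib.Helper13.TV

open Cfsg Subgroup

universe u

variable {G : Type u} [Group G] [Finite G]

/-- auxiliary: `k c k⁻¹ = d c` with `d` commuting with `k` gives `k ^ m c k ^ (-m) = d ^ m c`. -/
theorem c3_iter {k c d : G} (h1 : k * c * k⁻¹ = d * c) (h2 : k * d = d * k) (m : ℕ) :
    k ^ m * c * (k ^ m)⁻¹ = d ^ m * c := by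
  induction m with
  | zero => simp
  | succ n ih =>
    have e : k ^ (n + 1) * c * (k ^ (n + 1))⁻¹ = k * (k ^ n * c * (k ^ n)⁻¹) * k⁻¹ := by
      rw [pow_succ']; group
    rw [e, ih]
    have hc : Commute k (d ^ n) := (show Commute k d from h2).pow_right n
    calc k * (d ^ n * c) * k⁻¹ = (k * d ^ n) * c * k⁻¹ := by group
      _ = d ^ n * (k * c * k⁻¹) := by rw [hc.eq]; group
      _ = d ^ (n + 1) * c := by rw [h1, pow_succ]; group

/-- auxiliary: an abelian `p`-subgroup `Y` normalized by `k` of order prime to `p`, such that `k`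
centralizes all elements of order dividing `p` of `Y`, is centralized by `k`. -/
theorem c3_cent {p : ℕ} (hp : p.Prime) {Y : Subgroup G} {k : G}
    (hab : ∀ a ∈ Y, ∀ b ∈ Y, a * b = b * a)
    (hk : ∀ a ∈ Y, k * a * k⁻¹ ∈ Y) (hcop : (orderOf k).Coprime p)
    (hom : ∀ a ∈ Y, a ^ p = 1 → k * a = a * k) (n : ℕ) :
    ∀ c ∈ Y, c ^ p ^ n = 1 → k * c = c * k := by
  induction n with
  | zero =>
    intro c _ hc
    have : c = 1 := by simpa using hc
    simp [this]
  | succ n ih =>
    intro c hcY hc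
    have h1 : k * c ^ p = c ^ p * k := by
      apply ih _ (Y.pow_mem hcY p)
      rw [← pow_mul, ← pow_succ']; exact hc
    set d := k * c * k⁻¹ * c⁻¹ with hd
    have hdY : d ∈ Y := Y.mul_mem (hk c hcY) (Y.inv_mem hcY)
    have hcomm : Commute (k * c * k⁻¹) c⁻¹ := hab _ (hk c hcY) _ (Y.inv_mem hcY)
    have hdp : d ^ p = 1 := by
      rw [hd, hcomm.mul_pow, conj_pow, inv_pow]
      rw [h1]; group
    have hkd : k * d = d * k := hom d hdY hdp
    have hkc : k * c * k⁻¹ = d * c := by rw [hd]; group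
    have hit := c3_iter hkc hkd (orderOf k)
    rw [pow_orderOf_eq_one] at hit
    have hd1 : d ^ orderOf k = 1 := by
      have : c = d ^ orderOf k * c := by simpa using hit
      exact (mul_eq_right (a := d ^ orderOf k) (b := c)).1 this.symm
    have hdd : orderOf d ∣ 1 := by
      have a1 := orderOf_dvd_of_pow_eq_one hd1
      have a2 := orderOf_dvd_of_pow_eq_one hdp
      have := Nat.dvd_gcd a1 a2
      rwa [hcop] at this
    have hd1' : d = 1 := orderOf_eq_one_iff.1 (Nat.dvd_one.1 hdd)
    rw [hd1', one_mul] at hkc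
    calc k * c = (k * c * k⁻¹) * k := by group
      _ = c * k := by rw [hkc]

/-- RUNG C3: if `P` has rank at most 2 and `Ω₁(Z(P)) = K*` then `P` is extraspecial of order `p ^ 3`, exponent `p`. -/
theorem act_of_rank (hG : IsMinSimpleOddOrder G) {M K P C N A : Subgroup G} {p : ℕ} {x : G}
    (h : Cfg M K P C N A p x) (hr : PRankLE p 2 P) {Z : Subgroup G}
    (hZP : Z ≤ P ⊓ centralizer (P : Set G)) (hZc : Nat.card Z = p)
    (hZ : ∀ z ∈ P ⊓ centralizer (P : Set G), z ^ p = 1 → z ∈ Z)
    (heq : Z = sigmaCore M ⊓ centralizer (K : Set G)) : Act P Z K p := by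
  have hp := h.hp
  have : Fact p.Prime := ⟨hp⟩
  obtain ⟨hKP, hKc, hfix, hodd, hcop⟩ := Kstar hG h
  obtain ⟨hnab, -⟩ := not_comm hG h
  obtain ⟨S, hS⟩ := exists_sylow hG h
  have hKM : K ≤ M := h.dec.hall.1
  have hKN : K ≤ normalizer (P : Set G) := hKM.trans h.Pn
  have hfix' : ∀ k ∈ K, k ≠ 1 → P ⊓ centralizer ({k} : Set G) = Z := by
    intro k hk hk1; rw [heq]; exact hfix k hk hk1
  -- the centre of `P` is `Z`
  have hcenter : P ⊓ centralizer (P : Set G) ≤ Z := by
    obtain ⟨k, hk, hk1⟩ : ∃ k ∈ K, k ≠ 1 := by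
      by_contra hcon
      push Not at hcon
      exact h.K1 ((eq_bot_iff_forall K).2 hcon)
    intro c hc
    obtain ⟨n, hn⟩ := (h.Pp ⟨c, hc.1⟩)
    have hn' : c ^ p ^ n = 1 := by
      have := congrArg Subtype.val hn
      simpa using this
    have hkc : k * c = c * k := by
      refine c3_cent hp (Y := P ⊓ centralizer (P : Set G)) (k := k) ?_ ?_ ?_ ?_ n c hc hn'
      · intro a ha b hb
        exact (mem_centralizer_iff.1 ha.2 b hb.1).symm
      · intro a ha
        have hkn := hKN hk
        refine mem_inf.2 ⟨(mem_normalizer_iff.1 hkn a).1 ha.1, ?_⟩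
        rw [mem_centralizer_iff]
        intro y hy
        have hy' : k⁻¹ * y * k ∈ P := by
          have := (mem_normalizer_iff.1 (inv_mem hkn) y).1 hy
          simpa using this
        have := mem_centralizer_iff.1 ha.2 _ hy'
        calc y * (k * a * k⁻¹) = k * ((k⁻¹ * y * k) * a) * k⁻¹ := by group
          _ = k * (a * (k⁻¹ * y * k)) * k⁻¹ := by rw [this]
          _ = k * a * k⁻¹ * y := by group
      · have : orderOf k ∣ Nat.card K := by
          have := orderOf_dvd_natCard (⟨k, hk⟩ : K)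
          rwa [Subgroup.orderOf_mk] at this
        exact Nat.Coprime.coprime_dvd_left this hcop
      · intro a ha hap
        have haZ := hZ a ha hap
        rw [heq] at haZ
        exact mem_centralizer_iff.1 haZ.2 k hk
    rw [← hfix' k hk hk1]
    refine mem_inf.2 ⟨hc.1, ?_⟩
    rw [mem_centralizer_iff]
    intro y hy
    rw [Set.mem_singleton_iff] at hy
    rw [hy]; exact hkc
  have hZpow : ∀ z ∈ Z, z ^ p = 1 := by
    intro z hz
    have := pow_card_eq_one' (G := Z) (x := ⟨z, hz⟩)
    rw [hZc] at this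
    have := congrArg Subtype.val this
    simpa using this
  rcases Cfsg.Agent.S1412.result hG p S (by rw [hS]; exact hr) with hab | ⟨P₁, P₂, hsup, hcomm, hn1, hc1, he1, hcyc, hcl⟩
  · rw [hS] at hab; exact absurd hab hnab
  rw [hS] at hsup
  have hP2c : ∀ a ∈ P₂, ∀ b ∈ P₂, a * b = b * a := by
    intro a ha b hb
    have := hcyc
    have := IsCyclic.isMulCommutative (α := P₂)
    have := mul_comm' (⟨a, ha⟩ : P₂) ⟨b, hb⟩
    exact congrArg Subtype.val this
  have hP2Z : P₂ ≤ Z := by
    intro b hb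
    apply hcenter
    refine mem_inf.2 ⟨hsup ▸ (le_sup_right : P₂ ≤ P₁ ⊔ P₂) hb, ?_⟩
    have : P ≤ centralizer ({b} : Set G) := by
      rw [← hsup]
      refine sup_le ?_ ?_
      · intro a ha
        rw [mem_centralizer_iff]
        intro y hy
        rw [Set.mem_singleton_iff] at hy
        rw [hy]; exact (hcomm a ha b hb).symm
      · intro a ha
        rw [mem_centralizer_iff]
        intro y hy
        rw [Set.mem_singleton_iff] at hy
        rw [hy]; exact hP2c b hb a ha
    rw [mem_centralizer_iff]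
    intro y hy
    exact (mem_centralizer_iff.1 (this hy) b (Set.mem_singleton b)).symm
  have hP21 : P₂ ≤ P₁ := by
    have : P₂ ≤ closure {x : G | x ∈ P₂ ∧ x ^ p = 1} := by
      intro b hb
      exact subset_closure ⟨hb, hZpow b (hP2Z hb)⟩
    exact this.trans (hcl.le.trans inf_le_left)
  have hPP : P₁ = P := by rw [← hsup]; exact (sup_eq_left.2 hP21).symm
  subst hPP
  refine ⟨hp, hc1, ?_, hnab, hZP.trans inf_le_left, hZc, ?_, hKN, ?_, hodd, hcop, hfix'⟩
  · intro a ha
    have := Monoid.pow_exponent_eq_one (⟨a, ha⟩ : P₁)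
    rw [he1] at this
    have := congrArg Subtype.val this
    simpa using this
  · rw [le_centralizer_iff]; exact hZP.trans inf_le_right
  · intro a ha b hb
    have := h.dec.cyclic
    have := IsCyclic.isMulCommutative (α := K)
    have := mul_comm' (⟨a, ha⟩ : K) ⟨b, hb⟩
    exact congrArg Subtype.val this

end Cfsg.Agent.Lib.Helper13.TV
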