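import Cfsg.Agent.Lib.Helper13.TV.Defs

set_option autoImplicit false

namespace Cfsg.Agent.Lib.Helper13.TV

open Cfsg Subgroup

universe u

variable {G : Type u} [Group G] [Finite G]

/-- RUNG TI1. -/
theorem exists_of_not_TI {M : Subgroup G} (hTI : ¬ IsTISubset (sigmaCore M : Set G)) :
    ∃ (p : ℕ) (x g : G), p.Prime ∧ orderOf x = p ∧ x ∈ sigmaCore M ∧ g ∉ M ∧
      x ∈ M.map (MulAut.conj g).toMonoidHom := by
  unfold IsTISubset at hTI
  push Not at hTI
  obtain ⟨g, hg, y, hy, hgy, hy1⟩ := hTI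
  have hgM : g ∉ M := fun h => hg (Cfsg.Agent.Lib.Helper28.BG12.le_normalizer_sigmaCore M h)
  have ho : orderOf y ≠ 1 := fun h => hy1 (orderOf_eq_one_iff.mp h)
  have hpp : (orderOf y).minFac.Prime := Nat.minFac_prime ho
  have hpd : (orderOf y).minFac ∣ orderOf y := Nat.minFac_dvd _
  refine ⟨(orderOf y).minFac, y ^ (orderOf y / (orderOf y).minFac), g⁻¹, hpp,
    orderOf_pow_orderOf_div (orderOf_pos y).ne' hpd, (sigmaCore M).pow_mem hy _,
    fun h => hgM (by simpa using M.inv_mem h), ?_⟩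
  rw [Subgroup.mem_map]
  refine ⟨g * y ^ (orderOf y / (orderOf y).minFac) * g⁻¹, ?_, ?_⟩
  · have h1 : g * y ^ (orderOf y / (orderOf y).minFac) * g⁻¹
        = (g * y * g⁻¹) ^ (orderOf y / (orderOf y).minFac) := (conj_pow).symm
    rw [h1]
    exact M.pow_mem (Cfsg.Agent.Lib.Helper28.BG12.sigmaCore_le M hgy) _
  · simp [MulAut.conj_apply, mul_assoc]

end Cfsg.Agent.Lib.Helper13.TV
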