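import Cfsg.Agent.Lib.Helper13.TV.Defs
import Cfsg.Agent.Lib.Helper24.BG14A
import Cfsg.Agent.S1374

set_option autoImplicit false

namespace Cfsg.Agent.Lib.Helper13.TV

open Cfsg Subgroup

universe u

variable {G : Type u} [Group G] [Finite G]

/-- RUNG TI2. -/
theorem cent_not_le (hG : IsMinSimpleOddOrder G) {M : Subgroup G} (hM : IsCoatom M) {x g : G}
    (hx : x ∈ sigmaCore M) (hx1 : x ≠ 1) (hg : g ∉ M) (hxg : x ∈ M.map (MulAut.conj g).toMonoidHom) :
    ¬ centralizer ({x} : Set G) ≤ M := by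
  intro hle
  obtain ⟨-, R, -, hR, huniq⟩ := Cfsg.Agent.S1374.result hG M hM x hx hx1
  have hRbot : R = ⊥ := by
    rw [eq_bot_iff, ← hR.2.2.1]
    exact le_inf (le_inf (hR.2.1.trans hle) hR.2.1) le_rfl
  obtain ⟨r, ⟨hr, hrg⟩, -⟩ := huniq g hxg
  rw [hRbot, mem_bot] at hr
  subst hr
  have hM1 : M ≠ ⊥ := by
    rintro rfl
    have := Cfsg.Agent.Lib.Helper28.BG12.sigmaCore_le (⊥ : Subgroup G) hx
    exact hx1 (mem_bot.mp this)
  have hMg : M.map (MulAut.conj g).toMonoidHom = M := by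
    rw [← hrg]
    ext y
    simp
  apply hg
  rw [← Cfsg.Agent.Lib.Helper24.BG14.normalizer_coatom hG hM hM1]
  rw [Subgroup.mem_normalizer_iff]
  intro y
  constructor
  · intro hy
    have : g * y * g⁻¹ ∈ M.map (MulAut.conj g).toMonoidHom := ⟨y, hy, rfl⟩
    rwa [hMg] at this
  · intro hy
    rw [← hMg] at hy
    obtain ⟨z, hz, hzy⟩ := hy
    have : z = y := by
      have h1 : g * z * g⁻¹ = g * y * g⁻¹ := hzy
      exact mul_left_cancel (mul_right_cancel h1)
    exact this ▸ hz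

end Cfsg.Agent.Lib.Helper13.TV
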