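import Cfsg.Agent.Lib.Helper13.TV.Defs
import Cfsg.Agent.Lib.Helper24.BG14B
import Cfsg.Agent.S1416
import Cfsg.Agent.S1417
import Cfsg.Agent.S1418
import Cfsg.Agent.S1378
import Cfsg.Agent.S1432

set_option autoImplicit false

namespace Cfsg.Agent.Lib.Helper13.TV

open Cfsg Subgroup

universe u

variable {G : Type u} [Group G] [Finite G]

/-- RUNG TI3 (Lemma L). -/
theorem exists_N (hG : IsMinSimpleOddOrder G) {M : Subgroup G} (hM : IsCoatom M) {x : G} {p : ℕ}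
    (hp : p.Prime) (hx : x ∈ sigmaCore M) (hxo : orderOf x = p)
    (hxM : ¬ centralizer ({x} : Set G) ≤ M) :
    ∃ N A : Subgroup G, IsCoatom N ∧ centralizer ({x} : Set G) ≤ N ∧
      IsComplIn (M ⊓ N) (sigmaCore N) N ∧ p ∈ tau2 N ∧ A ≤ M ⊓ N ∧ IsElementaryAbelian p A ∧
      Nat.card A = p ^ 2 ∧ x ∈ A := by
  have := Fact.mk hp
  have hx1 : x ≠ 1 := by
    intro h
    rw [h, orderOf_one] at hxo
    exact hp.one_lt.ne hxo
  obtain ⟨N, hc⟩ := Cfsg.Agent.Lib.Helper24.BG14.exists_ctx hG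
    (fun M hM p _ A hA => (Cfsg.Agent.S1416.result hG M hM p A hA).1)
    (fun M hM p _ hp A hA => Cfsg.Agent.S1417.result hG M hM p hp A hA)
    (fun M hM E hE p _ hp A hA => Cfsg.Agent.S1418.result hG M hM E hE p hp A hA)
    (Cfsg.Agent.S1378.result hG).2
    (fun M hM x hx hx1 x' hx' hx'1 hσ => Cfsg.Agent.S1432.result hG M hM x hx hx1 x' hx' hx'1 hσ)
    hM hx hx1 hxM
  have htau : p ∈ tau2 N := hc.tau2 p hp (hxo ▸ dvd_rfl)
  obtain ⟨A, hAE, hAea, hAc⟩ :=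
    Cfsg.Agent.Lib.Helper28.BG12.exists_ea_sq_in_compl hG hc.coatom hc.compl htau
  refine ⟨N, A, hc.coatom, hc.cent_le, hc.compl, htau, hAE, hAea, hAc, ?_⟩
  have hxE : x ∈ M ⊓ N :=
    ⟨Cfsg.Agent.Lib.Helper28.BG12.sigmaCore_le M hx,
      hc.cent_le (mem_centralizer_singleton_iff.mpr rfl)⟩
  have h18 := (Cfsg.Agent.S1418.result hG N hc.coatom (M ⊓ N) hc.compl p htau A
    ⟨hAE, hAea, hAc⟩).1.2 (zpowers x) (by rw [zpowers_le]; exact hxE)
    (by rw [Nat.card_zpowers, hxo])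
  exact h18 (mem_zpowers x)

end Cfsg.Agent.Lib.Helper13.TV
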