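import Cfsg.Agent.Lib.Helper13.TV.ND
import Cfsg.Agent.Lib.Helper13.TV.TI1
import Cfsg.Agent.Lib.Helper13.TV.TI2
import Cfsg.Agent.Lib.Helper13.TV.TI3

set_option autoImplicit false

namespace Cfsg.Agent.Lib.Helper13.TV

open Cfsg Subgroup

universe u

variable {G : Type u} [Group G] [Finite G]

/-- RUNG CFG. -/
theorem exists_cfg (hG : IsMinSimpleOddOrder G) {M K : Subgroup G} (hM : IsCoatom M)
    (hKU : IsSigmaDecomposition M K ⊥) (hK1 : K ≠ ⊥) (hnil : Group.IsNilpotent (sigmaCore M))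
    (hTI : ¬ IsTISubset (sigmaCore M : Set G)) :
    ∃ (p : ℕ) (N A : Subgroup G) (x : G),
      Cfg M K ((pCore p ↥(sigmaCore M)).map (sigmaCore M).subtype)
        ((pPrimeCore p ↥(sigmaCore M)).map (sigmaCore M).subtype) N A p x := by
  obtain ⟨p, x, g, hp, hxo, hxH, hg, hxg⟩ := exists_of_not_TI hTI
  have hx1 : x ≠ 1 := by
    intro h
    rw [h, orderOf_one] at hxo
    exact hp.one_lt.ne hxo
  have hxM := cent_not_le hG hM hxH hx1 hg hxg
  obtain ⟨N, A, hN, hcN, hcompl, htau, hAE, hAea, hAc, hxA⟩ := exists_N hG hM hp hxH hxo hxM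
  obtain ⟨h1, h2, h3, h4, h5, h6⟩ := nilpotent_decomp hnil hp
  exact ⟨p, N, A, x,
    { hp := hp, hM := hM, dec := hKU, K1 := hK1, nil := hnil, PC := h1, Pp := h2, Cp := h3,
      comm := h4, Pn := (h6 M (Cfsg.Agent.Lib.Helper28.BG12.le_normalizer_sigmaCore M)).1,
      pel := h5, hN := hN, cent := hcN, compl := hcompl, tau2 := htau, AE := hAE, Aea := hAea,
      Ac := hAc, xA := hxA, xo := hxo, xH := hxH }⟩

end Cfsg.Agent.Lib.Helper13.TV
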