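import Cfsg.Agent.Lib.Helper13.TV.Defs

set_option autoImplicit false

namespace Cfsg.Agent.Lib.Helper13.TV

open Cfsg Subgroup

universe u

variable {G : Type u} [Group G] [Finite G]

/-- RUNG COMM (pure group theory): `P / Z` has order `p ^ 2`, so it is abelian. -/
theorem comm_mem {P Z : Subgroup G} {p : ℕ} (hp : p.Prime) (cardP : Nat.card P = p ^ 3) (ZP : Z ≤ P)
    (cardZ : Nat.card Z = p) (Zc : P ≤ centralizer (Z : Set G)) :
    ∀ a ∈ P, ∀ b ∈ P, a * b * a⁻¹ * b⁻¹ ∈ Z := by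
  intro a ha b hb
  have : Fact p.Prime := ⟨hp⟩
  have hn : (Z.subgroupOf P).Normal := by
    refine ⟨fun z hz g => ?_⟩
    rw [mem_subgroupOf] at hz ⊢
    have hc : (z : G) * (g : G) = (g : G) * (z : G) := (mem_centralizer_iff.mp (Zc g.2)) z hz
    have : ((g * z * g⁻¹ : ↥P) : G) = z := by
      push_cast
      rw [← hc, mul_inv_cancel_right]
    rw [this]
    exact hz
  have hcZ : Nat.card (Z.subgroupOf P) = p := by
    rw [Nat.card_congr (subgroupOfEquivOfLe ZP).toEquiv, cardZ]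
  have hq : Nat.card (↥P ⧸ Z.subgroupOf P) = p ^ 2 := by
    have h1 := card_eq_card_quotient_mul_card_subgroup (Z.subgroupOf P)
    rw [cardP, hcZ] at h1
    have hp0 : 0 < p := hp.pos
    apply Nat.eq_of_mul_eq_mul_right hp0
    rw [← h1]
    ring
  have hcomm := (IsPGroup.isMulCommutative_of_card_eq_prime_sq hq).is_comm.comm
  have h2 : ((⟨a, ha⟩ * ⟨b, hb⟩ * ⟨a, ha⟩⁻¹ * ⟨b, hb⟩⁻¹ : ↥P) : ↥P ⧸ Z.subgroupOf P) = 1 := by
    rw [QuotientGroup.mk_mul, QuotientGroup.mk_mul, QuotientGroup.mk_mul, QuotientGroup.mk_inv,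
      QuotientGroup.mk_inv, hcomm ((⟨a, ha⟩ : ↥P) : ↥P ⧸ Z.subgroupOf P) ((⟨b, hb⟩ : ↥P) : _),
      mul_inv_cancel_right, mul_inv_cancel]
  rw [QuotientGroup.eq_one_iff, mem_subgroupOf] at h2
  exact h2

end Cfsg.Agent.Lib.Helper13.TV
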