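import Cfsg.Agent.Lib.Helper13.TV.NAB
import Cfsg.Agent.Lib.Helper13.TV.SYL
import Cfsg.Agent.Lib.Helper40.BG76ZG
import Cfsg.Agent.S1419

set_option autoImplicit false

namespace Cfsg.Agent.Lib.Helper13.TV

open Cfsg Subgroup

universe u

variable {G : Type u} [Group G] [Finite G]

/-- all Sylow `p`-subgroups of `G` are nonabelian. -/
theorem cyc_sylow_nab (hG : IsMinSimpleOddOrder G) {M K P C N A : Subgroup G} {p : ℕ} {x : G}
    (h : Cfg M K P C N A p x) [Fact p.Prime] (S : Sylow p G) :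
    ¬ IsMulCommutative (S : Subgroup G) := by
  intro hS
  obtain ⟨S0, hS0⟩ := exists_sylow hG h
  apply (not_comm hG h).1
  rw [← hS0]
  refine ⟨⟨fun a b => ?_⟩⟩
  apply (Sylow.equiv S0 S).injective
  rw [map_mul, map_mul]
  exact hS.is_comm.comm _ _

/-- `τ₂(N) = {p}`. -/
theorem cyc_tau2 (hG : IsMinSimpleOddOrder G) {M K P C N A : Subgroup G} {p : ℕ} {x : G}
    (h : Cfg M K P C N A p x) : tau2 N = {p} := by
  have : Fact p.Prime := ⟨h.hp⟩
  exact (Cfsg.Agent.S1419.result hG N h.hN (M ⊓ N) h.compl p h.tau2 (cyc_sylow_nab hG h) A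
    ⟨h.AE, h.Aea, h.Ac⟩).1

omit [Finite G] in
theorem cyc_C_le {M K P C N A : Subgroup G} {p : ℕ} {x : G}
    (h : Cfg M K P C N A p x) : C ≤ M ⊓ N := by
  have hCH : C ≤ sigmaCore M := by rw [h.PC]; exact le_sup_right
  exact le_inf (hCH.trans (Cfsg.Agent.Lib.Helper28.BG12.sigmaCore_le M))
    ((nab_C_le_cent h).trans h.cent)

/-- `C` is abelian. -/
theorem cyc_C_comm (hG : IsMinSimpleOddOrder G) {M K P C N A : Subgroup G} {p : ℕ} {x : G}
    (h : Cfg M K P C N A p x) : IsMulCommutative C := by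
  have hCH : C ≤ sigmaCore M := by rw [h.PC]; exact le_sup_right
  have hn : Group.IsNilpotent C := by
    have := h.nil
    exact Subgroup.isNilpotent_of_ker_le_center (Subgroup.inclusion hCH)
      (by rw [(MonoidHom.ker_eq_bot_iff _).2 (Subgroup.inclusion_injective hCH)]; exact bot_le)
  exact nab_comm_of_le hG h (cyc_C_le h) hn

/-- RUNG CYC: `C = O_{p'}(M_σ)` is cyclic. -/
theorem cyclic_C (hG : IsMinSimpleOddOrder G) {M K P C N A : Subgroup G} {p : ℕ} {x : G}
    (h : Cfg M K P C N A p x) : IsCyclic C := by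
  have hCE := cyc_C_le h
  have hab := cyc_C_comm hG h
  have hodd : Odd (Nat.card C) := hG.1.of_dvd_nat (Subgroup.card_subgroup_dvd_card C)
  refine Cfsg.Agent.Lib.Helper40.BG76.isCyclic_of_comm_of_rank_one (hCE.trans inf_le_right) hodd
    (fun a ha b hb => Cfsg.Agent.Lib.Helper28.BG12.comm_of_isMulCommutative hab ha hb) ?_
  intro q hq hqC
  have hqs : q ∉ sigma N := Cfsg.Agent.Lib.Helper28.BG12.not_mem_sigma_of_dvd_compl hG h.hN h.compl
    hq (hqC.trans (card_dvd_of_le hCE))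
  have h2 := Cfsg.Agent.Lib.Helper28.BG12.pRankLE_two_of_not_mem_sigma hG h.hN hq hqs
  by_contra h1
  have hmem : q ∈ tau2 N := ⟨hq, hqs, h2, h1⟩
  rw [cyc_tau2 hG h, Set.mem_singleton_iff] at hmem
  subst hmem
  exact (Nat.Prime.coprime_iff_not_dvd hq).mp h.Cp.symm hqC

end Cfsg.Agent.Lib.Helper13.TV
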