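import Cfsg.Agent.Lib.Helper28.BG12b

/-!
# Ladder TV (S1383, B-G Type V): shared definitions
-/

set_option autoImplicit false

namespace Cfsg.Agent.Lib.Helper13.TV

open Cfsg Subgroup

universe u

variable {G : Type u} [Group G]

/-- The configuration: `M = K M_σ` (`U = 1`, `K ≠ 1`), `M_σ = P × C` nilpotent, `P` its Sylow `p`-subgroup,
`x ∈ M_σ` of order `p` with `C_G(x) ≤ N`, `M ∩ N` a complement of `N_σ` in `N`, `p ∈ τ₂(N)`,
`x ∈ A ≤ M ∩ N` elementary abelian of order `p ^ 2`. -/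
structure Cfg (M K P C N A : Subgroup G) (p : ℕ) (x : G) : Prop where
  hp : p.Prime
  hM : IsCoatom M
  dec : IsSigmaDecomposition M K ⊥
  K1 : K ≠ ⊥
  nil : Group.IsNilpotent (sigmaCore M)
  PC : sigmaCore M = P ⊔ C
  Pp : IsPGroup p P
  Cp : (Nat.card C).Coprime p
  comm : C ≤ centralizer (P : Set G)
  Pn : M ≤ normalizer (P : Set G)
  pel : ∀ y ∈ sigmaCore M, (∃ k : ℕ, y ^ p ^ k = 1) → y ∈ P
  hN : IsCoatom N
  cent : centralizer ({x} : Set G) ≤ N
  compl : IsComplIn (M ⊓ N) (sigmaCore N) N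
  tau2 : p ∈ tau2 N
  AE : A ≤ M ⊓ N
  Aea : IsElementaryAbelian p A
  Ac : Nat.card A = p ^ 2
  xA : x ∈ A
  xo : orderOf x = p
  xH : x ∈ sigmaCore M

/-- The abstract action: `P` nonabelian of order `p ^ 3` and exponent `p`, `Z` central of order `p`, `K` abelian
of odd order prime to `p` normalizing `P` with `C_P(k) = Z` for all `k ≠ 1` in `K`. -/
structure Act (P Z K : Subgroup G) (p : ℕ) : Prop where
  hp : p.Prime
  cardP : Nat.card P = p ^ 3
  expP : ∀ a ∈ P, a ^ p = 1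
  nab : ¬ IsMulCommutative P
  ZP : Z ≤ P
  cardZ : Nat.card Z = p
  Zc : P ≤ centralizer (Z : Set G)
  KP : K ≤ normalizer (P : Set G)
  Kab : ∀ a ∈ K, ∀ b ∈ K, a * b = b * a
  Kodd : Odd (Nat.card K)
  Kp : (Nat.card K).Coprime p
  fix : ∀ k ∈ K, k ≠ 1 → P ⊓ centralizer ({k} : Set G) = Z

/-- a "line": a subgroup of order `p ^ 2` between `Z` and `P`. -/
def IsLine (P Z : Subgroup G) (p : ℕ) (L : Subgroup G) : Prop :=
  Z ≤ L ∧ L ≤ P ∧ Nat.card L = p ^ 2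

end Cfsg.Agent.Lib.Helper13.TV
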