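import Cfsg.Agent.Lib.Helper13.TV.SPAN
import Cfsg.Agent.Lib.Helper13.TV.COMM

set_option autoImplicit false

namespace Cfsg.Agent.Lib.Helper13.TV

open Cfsg Subgroup

universe u

variable {G : Type u} [Group G] [Finite G]

omit [Finite G] in
theorem fix_pow_left {a b z : G} (hab : a * b = z * (b * a)) (hza : Commute z a) (n : ℕ) :
    a ^ n * b = z ^ n * (b * a ^ n) := by
  induction n with
  | zero => simp
  | succ n ih =>
    calc a ^ (n + 1) * b = a ^ n * (a * b) := by rw [pow_succ, mul_assoc]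
      _ = a ^ n * z * (b * a) := by rw [hab, mul_assoc]
      _ = z * a ^ n * (b * a) := by rw [(hza.pow_right n).eq]
      _ = z * (a ^ n * b) * a := by simp only [mul_assoc]
      _ = z * (z ^ n * (b * a ^ n)) * a := by rw [ih]
      _ = z ^ (n + 1) * (b * a ^ (n + 1)) := by rw [pow_succ' z, pow_succ a]; simp only [mul_assoc]

omit [Finite G] in
theorem fix_pow_both {a b z : G} (hab : a * b = z * (b * a)) (hza : Commute z a) (hzb : Commute z b)
    (n m : ℕ) : a ^ n * b ^ m = z ^ (m * n) * (b ^ m * a ^ n) := by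
  have hba : b * a = z⁻¹ * (a * b) := by rw [hab, inv_mul_cancel_left]
  have h1 := fix_pow_left hba hzb.inv_left m
  have h2 : a * b ^ m = z ^ m * (b ^ m * a) := by
    rw [h1, inv_pow, mul_inv_cancel_left]
  have h3 := fix_pow_left h2 (hza.pow_left m) n
  rw [h3, pow_mul]

omit [Finite G] in
theorem fix_eq_one_of_coprime {w : G} {n m : ℕ} (h1 : w ^ n = 1) (h2 : w ^ m = 1)
    (h : n.Coprime m) : w = 1 := by
  rw [← orderOf_eq_one_iff]
  exact Nat.eq_one_of_dvd_coprimes h (orderOf_dvd_of_pow_eq_one h1) (orderOf_dvd_of_pow_eq_one h2)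

/-- RUNG FIX (pure group theory): a line normalized by one non-identity element of `K` is normalized by `K`. -/
theorem line_fixed {P Z K : Subgroup G} {p : ℕ} (h : Act P Z K p) {L : Subgroup G}
    (hL : IsLine P Z p L) {s : G} (hs : s ∈ K) (hs1 : s ≠ 1) (hsL : s ∈ normalizer (L : Set G)) :
    K ≤ normalizer (L : Set G) := by
  have : Fact p.Prime := ⟨h.hp⟩
  obtain ⟨hZL, hLP, hLc⟩ := hL
  -- `Z` is central in `P`
  have hPZ : ∀ x ∈ P, ∀ w ∈ Z, Commute w x := fun x hx w hw => mem_centralizer_iff.mp (h.Zc hx) w hw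
  -- `K` centralizes `Z`
  have hKZ : ∀ k ∈ K, ∀ z ∈ Z, k * z * k⁻¹ = z := by
    intro k hk z hz
    by_cases hk1 : k = 1
    · simp [hk1]
    · have hz' := hz
      rw [← h.fix k hk hk1, mem_inf, mem_centralizer_singleton_iff] at hz'
      rw [← hz'.2, mul_inv_cancel_right]
  obtain ⟨a, haL, haZ⟩ : ∃ a ∈ L, a ∉ Z := by
    by_contra hcon
    push Not at hcon
    have hle : L ≤ Z := hcon
    have := card_le_of_le hle
    rw [hLc, h.cardZ] at this
    have h2 := h.hp.two_le
    nlinarith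
  have haP := hLP haL
  obtain ⟨-, huniq, hrep⟩ := line_span h haP haZ
  have hLeq : L = zpowers a ⊔ Z := huniq L ⟨hZL, hLP, hLc⟩ haL
  have ha1 : a ≠ 1 := fun e => haZ (e ▸ Z.one_mem)
  have horda : orderOf a = p := orderOf_eq_prime (h.expP a haP) ha1
  have hsaL : s * a * s⁻¹ ∈ L := (mem_normalizer_iff.mp hsL a).mp haL
  obtain ⟨i, z1, hz1, hsa⟩ := hrep _ (hLeq ▸ hsaL)
  have key : ∀ k ∈ K, k * a * k⁻¹ ∈ L := by
    intro k hk
    by_contra hbL
    obtain ⟨b, hb⟩ : ∃ b, b = k * a * k⁻¹ := ⟨_, rfl⟩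
    rw [← hb] at hbL
    have hbP : b ∈ P := hb ▸ (mem_normalizer_iff.mp (h.KP hk) a).mp haP
    have hsb : s * b * s⁻¹ = b ^ i * z1 := by
      have hsk := h.Kab s hs k hk
      calc s * b * s⁻¹ = (s * k) * a * (s * k)⁻¹ := by rw [hb]; group
        _ = k * (s * a * s⁻¹) * k⁻¹ := by rw [hsk]; group
        _ = k * (a ^ i * z1) * k⁻¹ := by rw [hsa]
        _ = (k * a * k⁻¹) ^ i * (k * z1 * k⁻¹) := by rw [conj_pow, conj_mul]
        _ = b ^ i * z1 := by rw [hKZ k hk z1 hz1, hb]
    obtain ⟨z, hz⟩ : ∃ z, z = a * b * a⁻¹ * b⁻¹ := ⟨_, rfl⟩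
    have hzZ : z ∈ Z := hz ▸ comm_mem h.hp h.cardP h.ZP h.cardZ h.Zc a haP b hbP
    have hab : a * b = z * (b * a) := by rw [hz]; group
    have hz_ne : z ≠ 1 := by
      intro hz1'
      rw [hz1', one_mul] at hab
      -- `P = L ⊔ ⟨b⟩`
      have hXP : L ⊔ zpowers b = P := by
        have hle : L ⊔ zpowers b ≤ P := sup_le hLP (zpowers_le.mpr hbP)
        have hd1 : p ^ 2 ∣ Nat.card (L ⊔ zpowers b : Subgroup G) := hLc ▸ card_dvd_of_le le_sup_left
        have hd2 : Nat.card (L ⊔ zpowers b : Subgroup G) ∣ p ^ 3 := h.cardP ▸ card_dvd_of_le hle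
        obtain ⟨j, hj3, hj⟩ := (Nat.dvd_prime_pow h.hp).mp hd2
        rw [hj] at hd1
        have hj2 : 2 ≤ j := (Nat.pow_dvd_pow_iff_le_right h.hp.one_lt).mp hd1
        have hjne : j ≠ 2 := by
          rintro rfl
          have : L = L ⊔ zpowers b := eq_of_le_of_card_ge le_sup_left (by rw [hj, hLc])
          apply hbL
          rw [this]
          exact (le_sup_right : zpowers b ≤ _) (mem_zpowers b)
        have hj3' : j = 3 := by omega
        exact eq_of_le_of_card_ge hle (by rw [hj, hj3', h.cardP])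
      have gen : ∀ g, a * g = g * a → b * g = g * b → (∀ w ∈ Z, w * g = g * w) →
          ∀ x ∈ P, x * g = g * x := by
        intro g h1 h2 h3 x hx
        have hle : L ⊔ zpowers b ≤ centralizer {g} := by
          rw [hLeq]
          exact sup_le (sup_le (zpowers_le.mpr (mem_centralizer_singleton_iff.mpr h1))
            (fun w hw => mem_centralizer_singleton_iff.mpr (h3 w hw)))
            (zpowers_le.mpr (mem_centralizer_singleton_iff.mpr h2))
        exact mem_centralizer_singleton_iff.mp (hle (hXP ▸ hx))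
      have ha_c := gen a rfl hab.symm (fun w hw => hPZ a haP w hw)
      have hb_c := gen b hab rfl (fun w hw => hPZ b hbP w hw)
      have hall : ∀ y ∈ P, ∀ x ∈ P, x * y = y * x := fun y hy =>
        gen y (ha_c y hy).symm (hb_c y hy).symm (fun w hw => hPZ y hy w hw)
      exact h.nab ⟨⟨fun x y => Subtype.ext (hall y.1 y.2 x.1 x.2)⟩⟩
    have hza : Commute z a := hPZ a haP z hzZ
    have hzb : Commute z b := hPZ b hbP z hzZ
    have h1a : Commute z1 a := hPZ a haP z1 hz1
    have h1b : Commute z1 b := hPZ b hbP z1 hz1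
    have e1 : (s * a * s⁻¹) * (s * b * s⁻¹) =
        (s * z * s⁻¹) * ((s * b * s⁻¹) * (s * a * s⁻¹)) := by
      rw [conj_mul, conj_mul, conj_mul, hab]
    rw [hsa, hsb, hKZ s hs z hzZ] at e1
    have e2 : a ^ i * b ^ i = z * (b ^ i * a ^ i) := by
      have l : a ^ i * z1 * (b ^ i * z1) = a ^ i * b ^ i * (z1 * z1) := by
        rw [mul_assoc, ← mul_assoc z1, (h1b.pow_right i).eq]; simp only [mul_assoc]
      have r : z * (b ^ i * z1 * (a ^ i * z1)) = z * (b ^ i * a ^ i) * (z1 * z1) := by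
        rw [mul_assoc (b ^ i), ← mul_assoc z1, (h1a.pow_right i).eq]; simp only [mul_assoc]
      rw [l, r] at e1
      exact mul_right_cancel e1
    rw [fix_pow_both hab hza hzb i i] at e2
    have e3 : z ^ (i * i) = z ^ 1 := by rw [pow_one]; exact mul_right_cancel e2
    have hordz : orderOf z = p := orderOf_eq_prime (h.expP z (h.ZP hzZ)) hz_ne
    have hmod : i * i ≡ 1 [MOD p] := hordz ▸ pow_eq_pow_iff_modEq.mp e3
    have haii : a ^ (i * i) = a := by
      have := pow_eq_pow_iff_modEq.mpr (horda.symm ▸ hmod : i * i ≡ 1 [MOD orderOf a])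
      rwa [pow_one] at this
    -- `t = s * s`
    have htK : s * s ∈ K := K.mul_mem hs hs
    have ht1 : s * s ≠ 1 := by
      intro e
      apply hs1
      have hodd : (Nat.card K).Coprime 2 := Nat.coprime_two_right.mpr h.Kodd
      exact fix_eq_one_of_coprime (n := Nat.card K) (m := 2)
        ((orderOf_dvd_iff_pow_eq_one).mp (Subgroup.orderOf_dvd_natCard K hs)) (by rw [sq, e]) hodd
    obtain ⟨z', hz'⟩ : ∃ z', z' = z1 ^ i * z1 := ⟨_, rfl⟩
    have hz'Z : z' ∈ Z := hz' ▸ Z.mul_mem (Z.pow_mem hz1 i) hz1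
    have hta : (s * s) * a * (s * s)⁻¹ = a * z' := by
      calc (s * s) * a * (s * s)⁻¹ = s * (s * a * s⁻¹) * s⁻¹ := by group
        _ = s * (a ^ i * z1) * s⁻¹ := by rw [hsa]
        _ = (s * a * s⁻¹) ^ i * (s * z1 * s⁻¹) := by rw [conj_pow, conj_mul]
        _ = (a ^ i * z1) ^ i * z1 := by rw [hsa, hKZ s hs z1 hz1]
        _ = a ^ (i * i) * z1 ^ i * z1 := by rw [((h1a.pow_right i).symm).mul_pow, ← pow_mul]
        _ = a * z' := by rw [haii, hz', mul_assoc]
    have hind : ∀ n : ℕ, (s * s) ^ n * a * ((s * s) ^ n)⁻¹ = a * z' ^ n := by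
      intro n
      induction n with
      | zero => simp
      | succ n ih =>
        calc (s * s) ^ (n + 1) * a * ((s * s) ^ (n + 1))⁻¹
            = (s * s) * ((s * s) ^ n * a * ((s * s) ^ n)⁻¹) * (s * s)⁻¹ := by
              rw [pow_succ', mul_inv_rev]; simp only [mul_assoc]
          _ = (s * s) * (a * z' ^ n) * (s * s)⁻¹ := by rw [ih]
          _ = ((s * s) * a * (s * s)⁻¹) * ((s * s) * z' ^ n * (s * s)⁻¹) := by rw [conj_mul]
          _ = a * z' * z' ^ n := by rw [hta, hKZ _ htK _ (Z.pow_mem hz'Z n)]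
          _ = a * z' ^ (n + 1) := by rw [pow_succ', mul_assoc]
    have hz'1 : z' = 1 := by
      have e := hind (Nat.card K)
      rw [(orderOf_dvd_iff_pow_eq_one).mp (Subgroup.orderOf_dvd_natCard K htK)] at e
      simp only [one_mul, inv_one, mul_one] at e
      exact fix_eq_one_of_coprime (n := Nat.card K) (m := p) (left_eq_mul.mp e)
        (h.expP z' (h.ZP hz'Z)) h.Kp
    rw [hz'1, mul_one] at hta
    apply haZ
    rw [← h.fix _ htK ht1, mem_inf, mem_centralizer_singleton_iff]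
    refine ⟨haP, ?_⟩
    rw [mul_inv_eq_iff_eq_mul] at hta
    exact hta.symm
  -- conclusion
  have hconj : ∀ k ∈ K, ∀ y ∈ L, k * y * k⁻¹ ∈ L := by
    intro k hk y hy
    obtain ⟨j, w, hw, rfl⟩ := hrep y (hLeq ▸ hy)
    rw [← conj_mul, ← conj_pow, hKZ k hk w hw]
    exact L.mul_mem (L.pow_mem (key k hk) j) (hZL hw)
  intro k hk
  rw [mem_normalizer_iff]
  intro y
  refine ⟨hconj k hk y, fun hy => ?_⟩
  have := hconj k⁻¹ (K.inv_mem hk) _ hy
  simpa [mul_assoc] using this

end Cfsg.Agent.Lib.Helper13.TV
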