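import Cfsg.Agent.Lib.Helper13.TV.CYC
import Cfsg.Agent.Lib.Helper14.Sup
import Cfsg.Agent.S1373
import Cfsg.Agent.S1430

set_option autoImplicit false

namespace Cfsg.Agent.Lib.Helper13.TV

open Cfsg Subgroup
open scoped commutatorElement

universe u

variable {G : Type u} [Group G] [Finite G]

/-- `[M_σ, M_σ] ≤ P`. -/
theorem ks_comm_le (hG : IsMinSimpleOddOrder G) {M K P C N A : Subgroup G} {p : ℕ} {x : G}
    (h : Cfg M K P C N A p x) : ⁅sigmaCore M, sigmaCore M⁆ ≤ P := by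
  have hab := cyc_C_comm hG h
  have hc : ∀ a ∈ P, ∀ c ∈ C, a * c = c * a :=
    fun a ha c hc => mem_centralizer_iff.mp (h.comm hc) a ha
  rw [commutator_le]
  intro g₁ h₁ g₂ h₂
  rw [h.PC, Cfsg.Agent.Lib.Helper14.mem_sup_of_commute hc] at h₁ h₂
  obtain ⟨a, ha, c, hc1, rfl⟩ := h₁
  obtain ⟨a', ha', c', hc2, rfl⟩ := h₂
  have e : ⁅a * c, a' * c'⁆ = ⁅a, a'⁆ := by
    rw [commutatorElement_def, commutatorElement_def, mul_inv_eq_iff_eq_mul,
      mul_inv_eq_iff_eq_mul]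
    calc a * c * (a' * c') = a * (c * a') * c' := by group
      _ = a * (a' * c) * c' := by rw [hc a' ha' c hc1]
      _ = a * a' * (c * c') := by group
      _ = a * a' * (c' * c) := by
        rw [Cfsg.Agent.Lib.Helper28.BG12.comm_of_isMulCommutative hab hc1 hc2]
      _ = a * a' * a⁻¹ * (a * c') * c := by group
      _ = a * a' * a⁻¹ * (c' * a) * c := by rw [hc a ha c' hc2]
      _ = a * a' * a⁻¹ * a'⁻¹ * (a' * c') * (a * c) := by group
  rw [e]
  rw [commutatorElement_def]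
  exact P.mul_mem (P.mul_mem (P.mul_mem ha ha') (P.inv_mem ha)) (P.inv_mem ha')

/-- RUNG KS: `K* = C_{M_σ}(K)` is a subgroup of `P` of order `p`, equal to `C_P(k)` for `k ∈ K`, `k ≠ 1`;
`K` has odd order prime to `p`. -/
theorem Kstar (hG : IsMinSimpleOddOrder G) {M K P C N A : Subgroup G} {p : ℕ} {x : G}
    (h : Cfg M K P C N A p x) :
    sigmaCore M ⊓ centralizer (K : Set G) ≤ P ∧
      Nat.card ↥(sigmaCore M ⊓ centralizer (K : Set G)) = p ∧
      (∀ k ∈ K, k ≠ 1 → P ⊓ centralizer ({k} : Set G) = sigmaCore M ⊓ centralizer (K : Set G)) ∧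
      Odd (Nat.card K) ∧ (Nat.card K).Coprime p := by
  have hPH : P ≤ sigmaCore M := by rw [h.PC]; exact le_sup_left
  have s65 := Cfsg.Agent.S1365.result hG M h.hM K ⊥ h.dec h.K1
  have hKsP : sigmaCore M ⊓ centralizer (K : Set G) ≤ P := by
    refine s65.2.trans ?_
    rw [s65.1, bot_sup_eq]
    exact ks_comm_le hG h
  have hq := Cfsg.Agent.S1373.result hG M h.hM K ⊥ h.dec h.K1 rfl
  have hcard : Nat.card ↥(sigmaCore M ⊓ centralizer (K : Set G)) = p := by
    have : Fact p.Prime := ⟨h.hp⟩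
    obtain ⟨n, hn⟩ := IsPGroup.iff_card.mp (h.Pp.to_le hKsP)
    exact (Nat.prime_dvd_prime_iff_eq hq h.hp).mp (hq.dvd_of_dvd_pow (dvd_of_eq hn))
  refine ⟨hKsP, hcard, ?_, hG.1.of_dvd_nat (Subgroup.card_subgroup_dvd_card K), ?_⟩
  · intro k hk hk1
    have s30 := (Cfsg.Agent.S1430.result hG M h.hM K h.dec.hall h.K1).1 k hk hk1
    apply le_antisymm
    · rw [← s30]
      exact inf_le_inf_right _ hPH
    · refine le_inf hKsP ?_
      rw [← s30]
      exact inf_le_right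
  · refine Nat.Coprime.symm ((Nat.Prime.coprime_iff_not_dvd h.hp).mpr fun hd => ?_)
    exact (h.dec.hall.2.1 p h.hp hd).2.2.1 (syl_mem_sigma hG h)

end Cfsg.Agent.Lib.Helper13.TV
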