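import Cfsg.Agent.Lib.Helper13.TV.CFG
import Cfsg.Agent.Lib.Helper13.TV.ACT
import Cfsg.Agent.Lib.Helper13.TV.Z0
import Cfsg.Agent.Lib.Helper13.TV.C1
import Cfsg.Agent.Lib.Helper13.TV.C2
import Cfsg.Agent.Lib.Helper13.TV.C3

set_option autoImplicit false

namespace Cfsg.Agent.Lib.Helper13.TV

open Cfsg Subgroup

universe u

variable {G : Type u} [Group G] [Finite G]

/-- The trichotomy of Type V (B-G 15.7 for `K ≠ 1`, `U = 1`, `M_σ` nilpotent). -/
theorem trichotomy (hG : IsMinSimpleOddOrder G) {M K : Subgroup G} (hM : IsCoatom M)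
    (hKU : IsSigmaDecomposition M K ⊥) (hK1 : K ≠ ⊥) (hnil : Group.IsNilpotent (sigmaCore M)) :
    IsTISubset (sigmaCore M : Set G) ∨
      (∃ p : ℕ, p.Prime ∧ p ∣ Nat.card (sigmaCore M) ∧ Nat.card K ∣ p - 1 ∧
        IsCyclic (pPrimeCore p (sigmaCore M))) ∨
      (∃ p : ℕ, p.Prime ∧ p ∣ Nat.card (sigmaCore M) ∧ Nat.card (pCore p (sigmaCore M)) = p ^ 3 ∧
        Nat.card K ∣ p + 1 ∧ IsCyclic (pPrimeCore p (sigmaCore M))) := by
  by_cases hTI : IsTISubset (sigmaCore M : Set G)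
  · exact Or.inl hTI
  right
  obtain ⟨p, N, A, x, h⟩ := exists_cfg hG hM hKU hK1 hnil hTI
  have hp := h.hp
  have hcyc : IsCyclic (pPrimeCore p (sigmaCore M)) := by
    have h1 := cyclic_C hG h
    exact isCyclic_of_injective
      (equivMapOfInjective (pPrimeCore p (sigmaCore M)) (sigmaCore M).subtype
        (sigmaCore M).subtype_injective).toMonoidHom
      (equivMapOfInjective (pPrimeCore p (sigmaCore M)) (sigmaCore M).subtype
        (sigmaCore M).subtype_injective).injective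
  have hdvd : p ∣ Nat.card (sigmaCore M) := by
    have h1 : orderOf (⟨x, h.xH⟩ : sigmaCore M) = p :=
      (Subgroup.orderOf_mk x h.xH).trans h.xo
    exact h1 ▸ orderOf_dvd_natCard (⟨x, h.xH⟩ : sigmaCore M)
  by_cases hr : PRankLE p 2 ↥((pCore p ↥(sigmaCore M)).map (sigmaCore M).subtype)
  · obtain ⟨Z, hZP, hZc, hZ, hZn⟩ := exists_Z0 hG h
    by_cases heq : Z = sigmaCore M ⊓ centralizer (K : Set G)
    · have hact := act_of_rank hG h hr hZP hZc hZ heq
      rcases act_dvd hact with h1 | h1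
      · exact Or.inl ⟨p, hp, hdvd, h1, hcyc⟩
      · refine Or.inr ⟨p, hp, hdvd, ?_, h1, hcyc⟩
        rw [← hact.cardP]
        exact Nat.card_congr (equivMapOfInjective (pCore p (sigmaCore M)) (sigmaCore M).subtype
          (sigmaCore M).subtype_injective).toEquiv
    · exact Or.inl ⟨p, hp, hdvd, dvd_of_ne hG h (hZP.trans inf_le_left) hZc hZn heq, hcyc⟩
  · exact Or.inl ⟨p, hp, hdvd, dvd_of_rank hG h hr, hcyc⟩

end Cfsg.Agent.Lib.Helper13.TV
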