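import Cfsg.Agent.Lib.Helper13.TV.Defs
import Cfsg.Agent.Lib.Helper28.Cores
import Cfsg.Agent.Lib.Helper31.Nilpotent

set_option autoImplicit false

namespace Cfsg.Agent.Lib.Helper13.TV

open Cfsg Subgroup

universe u

variable {G : Type u} [Group G] [Finite G]

theorem nd_type {K : Type u} [Group K] [Finite K] (hK : Group.IsNilpotent K) {p : ℕ}
    (hp : p.Prime) :
    (pCore p K ⊔ pPrimeCore p K = ⊤) ∧ (∀ x : K, (∃ k : ℕ, x ^ p ^ k = 1) → x ∈ pCore p K) ∧
      (∀ a ∈ pCore p K, ∀ b ∈ pPrimeCore p K, a * b = b * a) := by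
  have := Fact.mk hp
  have hnorm : ∀ P : Sylow p K, (P : Subgroup K).Normal := by
    have h03 : Group.IsNilpotent K ↔ ∀ (p : ℕ) (_hp : Fact p.Prime) (P : Sylow p K),
        (P : Subgroup K).Normal := (Group.isNilpotent_of_finite_tfae (G := K)).out 0 3
    exact fun P => h03.mp hK p this P
  have hcomm : ∀ a b : K, (∃ k : ℕ, a ^ p ^ k = 1) → (orderOf b).Coprime p → a * b = b * a := by
    intro a b ⟨k, hk⟩ hb
    have h1 : (orderOf a).Coprime (orderOf b) :=
      Nat.Coprime.coprime_dvd_left (orderOf_dvd_of_pow_eq_one hk) (Nat.Coprime.pow_left k hb.symm)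
    exact Cfsg.Agent.Lib.Helper31.commute_of_coprime_orderOf K a b h1
  have hpel : ∀ x : K, (∃ k : ℕ, x ^ p ^ k = 1) → x ∈ pCore p K := by
    intro x ⟨k, hk⟩
    have h1 : IsPGroup p (zpowers x) := by
      rw [IsPGroup.iff_card]
      obtain ⟨j, -, hj⟩ := (Nat.dvd_prime_pow hp).mp (orderOf_dvd_of_pow_eq_one hk)
      exact ⟨j, by rw [Nat.card_zpowers, hj]⟩
    obtain ⟨P, hP⟩ := h1.exists_le_sylow
    exact Cfsg.Agent.Lib.Helper28.le_pCore (hnorm P) P.2 (hP (mem_zpowers x))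
  refine ⟨?_, hpel, ?_⟩
  · let S : Sylow p K := default
    have hSn := hnorm S
    obtain ⟨Q, hQ⟩ := Subgroup.exists_right_complement'_of_coprime S.card_coprime_index
    have hQc : (Nat.card Q).Coprime p := by
      rw [← hQ.symm.index_eq_card]
      exact ((Nat.Prime.coprime_iff_not_dvd hp).mpr S.not_dvd_index).symm
    have hSQ : ∀ s ∈ (S : Subgroup K), ∀ n ∈ Q, s * n = n * s := by
      intro s hs n hn
      apply hcomm s n
      · obtain ⟨k, hk⟩ := S.2 ⟨s, hs⟩
        exact ⟨k, by simpa using congrArg Subtype.val hk⟩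
      · exact Nat.Coprime.coprime_dvd_left (Subgroup.orderOf_dvd_natCard Q hn) hQc
    have htop : (S : Subgroup K) ⊔ Q = ⊤ := hQ.sup_eq_top
    have hQn : Q.Normal := by
      rw [← Subgroup.normalizer_eq_top_iff, eq_top_iff, ← htop, sup_le_iff]
      refine ⟨?_, le_normalizer⟩
      intro s hs
      rw [Subgroup.mem_normalizer_iff]
      intro n
      constructor
      · intro hn
        rw [hSQ s hs n hn]; simpa using hn
      · intro hn
        have h2 := hSQ s⁻¹ (inv_mem hs) _ hn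
        have h3 : n = s⁻¹ * (s * n * s⁻¹) * s := by group
        rw [h3, h2]; simpa using hn
    rw [eq_top_iff, ← htop]
    exact sup_le_sup (Cfsg.Agent.Lib.Helper28.le_pCore hSn S.2)
      (Cfsg.Agent.Lib.Helper28.le_pPrimeCore hQn hQc)
  · intro a ha b hb
    apply hcomm a b
    · obtain ⟨k, hk⟩ := Cfsg.Agent.Lib.Helper28.pCore_isPGroup (G := K) p ⟨a, ha⟩
      exact ⟨k, by simpa using congrArg Subtype.val hk⟩
    · exact Nat.Coprime.coprime_dvd_left (Subgroup.orderOf_dvd_natCard _ hb)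
        (Cfsg.Agent.Lib.Helper28.pPrimeCore_coprime p)

/-- RUNG ND (pure group theory): the `p`-decomposition of a nilpotent subgroup. -/
theorem nilpotent_decomp {H : Subgroup G} (hH : Group.IsNilpotent H) {p : ℕ} (hp : p.Prime) :
    H = (pCore p ↥H).map H.subtype ⊔ (pPrimeCore p ↥H).map H.subtype ∧
      IsPGroup p ((pCore p ↥H).map H.subtype) ∧
      (Nat.card ((pPrimeCore p ↥H).map H.subtype)).Coprime p ∧
      (pPrimeCore p ↥H).map H.subtype ≤ centralizer (((pCore p ↥H).map H.subtype : Subgroup G) : Set G) ∧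
      (∀ x ∈ H, (∃ k : ℕ, x ^ p ^ k = 1) → x ∈ (pCore p ↥H).map H.subtype) ∧
      (∀ L : Subgroup G, L ≤ normalizer (H : Set G) →
        L ≤ normalizer (((pCore p ↥H).map H.subtype : Subgroup G) : Set G) ∧
        L ≤ normalizer (((pPrimeCore p ↥H).map H.subtype : Subgroup G) : Set G)) := by
  obtain ⟨h1, h2, h3⟩ := nd_type hH hp
  refine ⟨?_, ?_, ?_, ?_, ?_, ?_⟩
  · rw [← Subgroup.map_sup, h1, ← MonoidHom.range_eq_map, Subgroup.range_subtype]
  · exact (Cfsg.Agent.Lib.Helper28.pCore_isPGroup (G := ↥H) p).map H.subtype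
  · rw [Nat.card_congr (equivMapOfInjective (pPrimeCore p ↥H) H.subtype
      H.subtype_injective).toEquiv.symm]
    exact Cfsg.Agent.Lib.Helper28.pPrimeCore_coprime p
  · rintro _ ⟨b, hb, rfl⟩
    rw [mem_centralizer_iff]
    rintro _ ⟨a, ha, rfl⟩
    exact congrArg Subtype.val (h3 a ha b hb)
  · intro x hx ⟨k, hk⟩
    exact ⟨⟨x, hx⟩, h2 ⟨x, hx⟩ ⟨k, Subtype.ext (by simpa using hk)⟩, rfl⟩
  · intro L hL
    exact ⟨Cfsg.Agent.Lib.Helper28.le_normalizer_map_subtype_of_characteristic hL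
        (Cfsg.Agent.Lib.Helper28.pCore_characteristic p),
      Cfsg.Agent.Lib.Helper28.le_normalizer_map_subtype_of_characteristic hL
        (Cfsg.Agent.Lib.Helper28.pPrimeCore_characteristic p)⟩

end Cfsg.Agent.Lib.Helper13.TV
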