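import Cfsg.Agent.Lib.Helper13.TV.Defs
import Cfsg.Agent.Lib.Helper1.Coprime
import Cfsg.Agent.Lib.Helper1.PGroup

set_option autoImplicit false

namespace Cfsg.Agent.Lib.Helper13.TV

open Cfsg Subgroup

universe u

variable {G : Type u} [Group G] [Finite G]

theorem span_card_sup {H N : Subgroup G}
    (hLE : H ≤ Subgroup.normalizer (N : Set G)) (h : N ⊓ H = ⊥) :
    Nat.card (H ⊔ N : Subgroup G) = Nat.card H * Nat.card N := by
  rw [← Cfsg.Agent.Lib.Helper1.card_mul_relIndex (le_sup_right : N ≤ H ⊔ N),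
    Cfsg.Agent.Lib.Helper1.relIndex_sup_right_of_le_normalizer hLE, mul_comm]
  congr 1
  have h1 := Cfsg.Agent.Lib.Helper1.card_mul_relIndex (inf_le_right : N ⊓ H ≤ H)
  rwa [Subgroup.inf_relIndex_right, h, Subgroup.card_bot, one_mul] at h1

/-- RUNG SPAN (pure group theory): a line is `⟨a⟩ Z` for each of its elements `a ∉ Z`; and `⟨a⟩ Z` is a line. -/
theorem line_span {P Z K : Subgroup G} {p : ℕ} (h : Act P Z K p) {a : G} (haP : a ∈ P) (haZ : a ∉ Z) :
    IsLine P Z p (zpowers a ⊔ Z) ∧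
      (∀ L, IsLine P Z p L → a ∈ L → L = zpowers a ⊔ Z) ∧
      ∀ y ∈ zpowers a ⊔ Z, ∃ i : ℕ, ∃ z ∈ Z, y = a ^ i * z := by
  have : Fact p.Prime := ⟨h.hp⟩
  have ha1 : a ≠ 1 := fun e => haZ (e ▸ Z.one_mem)
  have hord : orderOf a = p := orderOf_eq_prime (h.expP a haP) ha1
  have hca : Nat.card (zpowers a) = p := by rw [Nat.card_zpowers, hord]
  have hnorm : zpowers a ≤ normalizer (Z : Set G) := by
    rw [zpowers_le]
    have hc := mem_centralizer_iff.mp (h.Zc haP)
    rw [mem_normalizer_iff]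
    intro z
    constructor
    · intro hz
      rw [← hc z hz, mul_inv_cancel_right]
      exact hz
    · intro hz
      have e := hc _ hz
      have e2 : a * z * a⁻¹ = z := by
        have : a * z * a⁻¹ * a = a * (a * z * a⁻¹) := e
        rw [inv_mul_cancel_right] at this
        have := mul_left_cancel this
        exact this.symm
      rwa [e2] at hz
  have hdisj : Z ⊓ zpowers a = ⊥ := by
    have hd : Nat.card (Z ⊓ zpowers a : Subgroup G) ∣ p := by
      rw [← hca]
      exact card_dvd_of_le inf_le_right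
    rcases (Nat.dvd_prime h.hp).mp hd with h1 | h1
    · exact card_eq_one.mp h1
    · exfalso
      have : (Z ⊓ zpowers a : Subgroup G) = zpowers a :=
        eq_of_le_of_card_ge inf_le_right (by rw [h1, hca])
      apply haZ
      have ha : a ∈ (Z ⊓ zpowers a : Subgroup G) := by
        rw [this]
        exact mem_zpowers a
      exact ha.1
  have hcard : Nat.card (zpowers a ⊔ Z : Subgroup G) = p ^ 2 := by
    rw [span_card_sup hnorm hdisj, hca, h.cardZ, sq]
  refine ⟨⟨le_sup_right, sup_le (zpowers_le.mpr haP) h.ZP, hcard⟩, ?_, ?_⟩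
  · rintro L ⟨hZL, -, hLc⟩ haL
    exact (eq_of_le_of_card_ge (sup_le (zpowers_le.mpr haL) hZL) (by rw [hcard, hLc])).symm
  · intro y hy
    have hy' : y ∈ ((zpowers a ⊔ Z : Subgroup G) : Set G) := hy
    rw [coe_mul_of_left_le_normalizer_right _ _ hnorm, Set.mem_mul] at hy'
    obtain ⟨b, hb, z, hz, rfl⟩ := hy'
    have hb' : b ∈ Submonoid.powers a := mem_powers_iff_mem_zpowers.mpr hb
    obtain ⟨i, rfl⟩ := Submonoid.mem_powers_iff _ _ |>.mp hb'
    exact ⟨i, z, hz, rfl⟩

end Cfsg.Agent.Lib.Helper13.TV
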